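import Cfsg.Agent.FGS.CY.Bas
import Cfsg.Agent.FGS.CO.LL1
import Cfsg.Agent.INV.B2.Ext
import Cfsg.Agent.FGS.CY.LLq

/-!
# The local analysis in the model
-/

set_option autoImplicit false
set_option linter.unusedSectionVars false
open Cfsg Subgroup CL.Th CL.MSS CL.Push CL.BHS CL.B2
open CL.B2.PUq (br pre)
open CL.GK (E)
open CL.CO hiding Hyp Min Mx Lc
open scoped commutatorElement

namespace CL.CY

variable {X : Type*} [Group X] [Finite X] {r : ℕ} {a b c g s t u v w x y z γ : X}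
  {A B D G H K L O P R S T U Y : Subgroup X}

namespace Lc
variable (h : Lc K R L T)
include h

theorem TR : T ≤ R := h.TZ.trans (oz_le R)

theorem RT : R ≤ 𝐂 T := cent_symm (h.TZ.trans (oz_cent R))

theorem le_N (h1 : R ≤ U) (h2 : U ≤ K) (h3 : ¬ K ≤ U) : U ≤ 𝐍 R :=
  ((h.uniq.le_or_eq h1 h2).resolve_right fun e => h3 e.ge).trans inf_le_right

theorem cT : K ⊓ 𝐂 T ≤ 𝐍 R :=
  h.le_N (le_inf h.syl.le h.RT) inf_le_left fun e =>
    h.h1 T h.TR le_rfl h.LT (cent_le_norm (e.trans inf_le_right))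

theorem TV : T ≤ oz (O2 K) :=
  have k : T ≤ 𝐂 (O2 K) := cent_symm ((oP_le_sylIn h.syl).trans h.RT)
  le_oz (elemAb_of_le (oz_elem R) h.TZ) ((le_inf (h.TR.trans h.syl.le) k).trans h.chp) k

theorem inf_le (h1 : U ≤ K ⊓ 𝐍 R) (h2 : K ≤ 𝐍 U) : R ⊓ U ≤ O2 K :=
  h.uniq.inf_le_pcoreOf h.syl h1 h2

theorem nV : K ≤ 𝐍 (oz (O2 K)) := (oP_normal K).trans (norm_oz _)

theorem nC : K ≤ 𝐍 (K ⊓ 𝐂 (oz (O2 K)) : Subgroup X) :=
  CL.MSS.le_normalizer_inf le_normalizer (CL.MSS.le_normalizer_centralizer h.nV)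

theorem CN : K ⊓ 𝐂 (oz (O2 K)) ≤ 𝐍 R := (inf_le_inf_left _ (centralizer_le h.TV)).trans h.cT

theorem OV : R ⊓ 𝐂 (oz (O2 K)) = O2 K :=
  le_antisymm ((le_inf inf_le_left (inf_le_inf_right _ h.syl.le)).trans
    (h.inf_le (le_inf inf_le_left h.CN) h.nC)) (le_inf (oP_le_sylIn h.syl) (cent_symm (oz_cent _)))

theorem CR (hU : IsPGroup 2 U) (hK : U ≤ K) : ⁅K ⊓ 𝐂 (oz (O2 K)), U⁆ ≤ O2 K := by
  obtain ⟨g, hg, e⟩ := h.syl.exists_le_conj hU hK
  have e1 : g •ᶜ (K ⊓ 𝐂 (oz (O2 K))) = K ⊓ 𝐂 (oz (O2 K)) := cj_eq_of_mem_normalizer (h.nC hg)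
  have k : ⁅K ⊓ 𝐂 (oz (O2 K)), R⁆ ≤ O2 K :=
    (commutator_le_inf_of_normalizes h.CN (h.syl.le.trans h.nC)).trans
      ((le_inf inf_le_right (inf_le_left.trans inf_le_right)).trans h.OV.le)
  refine (commutator_mono e1.ge e).trans ?_
  rw [← map_commutator]
  exact (map_mono k).trans (cj_eq_of_mem_normalizer (oP_normal K hg)).le

theorem ls : ∃ 𝓛, LS K (oz (O2 K)) 𝓛 := by
  have hf := K.subtype_injective
  have hVH : oz (O2 K) ≤ K := (oz_le _).trans (oP_le K)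
  have eV : ((oz (O2 K)).subgroupOf K).map K.subtype = oz (O2 K) := map_subgroupOf_eq_of_le hVH
  have eR : (R.subgroupOf K).map K.subtype = R := map_subgroupOf_eq_of_le h.syl.le
  have : ((oz (O2 K)).subgroupOf K).Normal := (normal_subgroupOf_iff_le_normalizer hVH).2 h.nV
  have hV := MSS.elemAb_subgroupOf (oz_elem (p := 2) (O2 K)) K
  have s := (ls_top (stdModel _) (fh_of (stdModel _) hV (subgroupOf_self K ▸ h.syl.subgroupOf le_rfl)
    (fun N hN e => ?_) fun k hk => ?_) hV).map hf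
  · rw [eV, ← MonoidHom.range_eq_map, range_subtype] at s
    exact ⟨_, s⟩
  · have e1 : N.map K.subtype ≤ (K ⊓ 𝐂 (oz (O2 K))) ⊔ R := by
      refine (map_mono e).trans ?_
      rw [Subgroup.map_sup, eR, sup_comm]
      exact sup_le_sup_right (le_inf (map_subtype_le _)
        (((map_le_cent_iff hf).2 le_rfl).trans (eV.symm ▸ le_rfl))) _
    have e2 : K ≤ 𝐍 (N.map K.subtype) := by
      have := (map_mono (le_normalizer_of_normal : ⊤ ≤ 𝐍 N)).trans (le_normalizer_map K.subtype)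
      rwa [← MonoidHom.range_eq_map, range_subtype] at this
    rw [← map_le_cent_iff hf, eV, ← oU_sup_sylIn (h.syl.inf_normal_of_le e2 (map_subtype_le _))]
    exact sup_le ((oU_le_of_le_sup h.syl.pgroup (h.syl.le.trans h.nC) e1).trans inf_le_right)
      ((h.inf_le (le_inf (map_subtype_le _) (e1.trans (sup_le h.CN le_normalizer))) e2).trans
        (cent_symm (oz_cent _)))
  · rw [← map_mem_cent_iff hf, map_inf_cent hf, eV, eR] at hk
    have k1 : (k : X) ∈ 𝐍 R := h.cT ⟨k.2, centralizer_le (le_inf h.TV (cent_symm h.RT)) hk⟩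
    refine mem_normalizer_iff.2 fun x => ?_
    exact mem_normalizer_iff.1 k1 x

theorem TJ : T ≤ Jt R := h.TZ.trans (omegaOne_center_le_thompsonSubgroupOf R)

theorem jn : ¬ Jt R ≤ O2 K := fun e =>
  h.h1 _ (thompsonSubgroupOf_le R) h.TJ (h.LR.trans (normalizer_le_normalizer_thompsonSubgroupOf R))
    (by
      rw [← thompsonSubgroupOf_eq_of_le e (oP_le_sylIn h.syl)]
      exact (oP_normal K).trans (normalizer_le_normalizer_thompsonSubgroupOf _))

end Lc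

theorem Lc.exists_line (h : Lc K R L T) : ∃ P ≤ K, Ln0 Set.univ P (Bm R) := by
  obtain ⟨𝓛, s⟩ := h.ls
  have VR : oz (O2 K) ≤ R := (oz_le _).trans (oP_le_sylIn h.syl)
  obtain ⟨A, hA, L', hL, e⟩ : ∃ A ∈ Am R, ∃ L' ∈ 𝓛, ¬ A ⊓ L' ≤ 𝐂 (oz (O2 K)) := by
    by_contra! hc
    refine h.jn (thompsonSubgroupOf_le_iff.2 fun A hA => (le_inf hA.1 ?_).trans h.OV.le)
    have off := off_am h.syl s.elem VR hA
    refine (s.dec A off).trans (sup_le inf_le_right (iSup₂_le fun L' hL => ?_))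
    rw [cpt_eq (s.cp L' hL) s.norm off.le]
    exact sup_le (hc A hA L' hL) inf_le_right
  obtain ⟨P₀, R', h1, h2, h3, p, -⟩ := extB' h.syl s h.OV (fun _ => h.CR) h.CN VR hL hA e
  obtain ⟨P, k1, k2, -⟩ := extA (D := Set.univ) p (t := 1) trivial (one_mem _) (one_mem _)
  have j : Jt R' = Jt R := thompsonSubgroupOf_eq_of_le ((J_le_baum R).trans h3) h2
  have b : Bm R' = Bm R := by
    show R' ⊓ 𝐂 (oz (Jt R')) = _
    rw [j]
    exact le_antisymm (inf_le_inf_right _ h2) (le_inf h3 inf_le_right)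
  exact ⟨P, k1.trans h1, b ▸ k2⟩

namespace Lc
variable (h : Lc K R L T) (hP : P ≤ K) (l : Ln0 Set.univ P (Bm R))
include h hP l

theorem sup_eq : K ≤ P ⊔ R := by
  by_contra e
  obtain ⟨x, hx, hn⟩ := l.exists_x
  exact hn (norm_baum R (h.le_N le_sup_right (sup_le hP h.syl.le) e (mem_sup_left (oU_le P hx))))

theorem pu : ⁅O2 P, oU[2] P⁆ ≤ Wo P := by
  refine amalPU (K := L) l le_rfl (sup_of_le_left l.Q_le) inf_le_right ((baum_le R).trans h.RL)
    (h.LR.trans (norm_baum R)) fun U hU hn => ?_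
  have nK : K ≤ 𝐍 U := (h.sup_eq hP l).trans ((sup_le_sup_left h.RL _).trans hn)
  have nC : K ≤ 𝐍 (K ⊓ 𝐂 U : Subgroup X) :=
    CL.MSS.le_normalizer_inf le_normalizer (CL.MSS.le_normalizer_centralizer nK)
  refine (oU_mono hP).trans ((h.uniq.presOf_le_of_not_le h.syl.pgroup inf_le_left
    (h.syl.le.trans nC) fun e => ?_).trans inf_le_right)
  have e1 : R ⊓ 𝐂 U = O2 K ⊓ 𝐂 U := le_antisymm (le_inf ((le_inf inf_le_left
    (inf_le_inf_right _ h.syl.le)).trans (h.inf_le e nC)) inf_le_right)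
    (inf_le_inf_right _ (oP_le_sylIn h.syl))
  refine h.h1 (R ⊓ 𝐂 U) inf_le_left (le_inf h.TR (cent_symm ((hU.trans (baum_le R)).trans h.RT)))
    (CL.MSS.le_normalizer_inf h.LR (CL.MSS.le_normalizer_centralizer (le_sup_right.trans hn))) ?_
  rw [e1]
  exact CL.MSS.le_normalizer_inf (oP_normal K) (CL.MSS.le_normalizer_centralizer nK)

end Lc

theorem Lc.cf (h : Lc K R L T) :
    (∃ z v, ∃ x ∈ K, Cf R z v x) ∨ ∃ W, ∃ x ∈ K, ∃ k ∈ K, Cq (Bm R) W x k := by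
  obtain ⟨P, hP, l⟩ := h.exists_line
  by_cases hq : qo P (Bm R) = 2
  swap
  · obtain ⟨x, hx, k, hk, c⟩ := cq_of_line l (h.pu hP l) hq fun k hk => h.tor3 k ⟨hP hk.1, hk.2⟩
    exact .inr ⟨_, x, hP hx, k, hP hk, c⟩
  left
  obtain ⟨z, z2, hz⟩ := l.two_Z hq
  obtain ⟨v, hv, hn⟩ := SetLike.not_le_iff_exists.1 l.W_not_le_Z
  obtain ⟨A, hA, hQ⟩ := l.exists_off
  obtain ⟨j, hj, hj'⟩ := SetLike.not_le_iff_exists.1 hQ
  obtain ⟨x, hx, -, -, e1, e2, -⟩ := l.two_e hq hz hv hn (hA.1 hj) hj'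
    ((pow_two j).symm.trans ((Th.elemAb_iff.1 hA.2.1).2 j hj))
  have zZ : z ∈ Zo P (Bm R) := hz ▸ mem_zpowers z
  have zW := l.Z_le zZ
  have zz := LB.Ysq (W_le_Y P zW)
  have vv := LB.Ysq (W_le_Y P hv)
  have zv := LB.Ycomm (W_le_Y P zW) (W_le_Y P hv)
  have z1 : z ≠ 1 := fun e => by simp [e] at z2
  refine ⟨z, v, x, hP (oU_le P hx), ⟨zz, vv, z1, zv, e1, e2⟩, l.W_le zW, l.W_le hv,
    fun b hb => l.Z_cent zZ b hb, fun b hb => ?_, fun q hq' e => ?_, j, ?_, l.two_cj hq hz hv hn (hA.1 hj) hj'⟩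
  · by_cases e : b ∈ O2 P
    · exact Or.inl (by rw [← Q_le_cent_W P e v hv, mul_inv_cancel_right])
    · exact Or.inr (l.two_cj hq hz hv hn hb e)
  · have k : q ∈ O2 P := by
      by_contra e'
      have := l.two_cj hq hz hv hn hq' e'
      rw [e, mul_inv_cancel_right] at this
      exact z1 (left_eq_mul.1 this)
    have k' : ⁅x, q⁆ ∈ Wo P := by
      rw [← commutatorElement_inv]
      exact inv_mem (h.pu hP l (commutator_mem_commutator k hx))
    exact (mem_V4 zz vv zv).2 (l.two_W hq hz hv hn k')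
  · rw [← Jt_Bm]
    exact le_thompsonSubgroupOf hA hj

end CL.CY
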